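import Cfsg.Agent.Lib.Helper1.HSRk.Hyp
import Cfsg.Agent.Lib.Helper1.HSIso3

/-!
# A group of rank 3 on 100 points with the stabilizer of a point the Mathieu group of degree 22
-/

set_option autoImplicit false
set_option linter.unusedSectionVars false

namespace Cfsg.Agent.Lib.Helper1.HSI

open Cfsg Cfsg.Agent.Lib.Helper1.SRG100 Cfsg.Agent.Lib.Helper1.HSG Cfsg.Agent.Lib.Helper1.Stein
  Cfsg.Agent.Lib.Helper1.HSRk
open Cfsg.Agent.Lib.Helper6.M24Idx (orb stb mem_orb mem_stb card_eq_orb_mul_stb)

/-- the order of the group -/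
theorem card_of_rank3 {Ω : Type*} [Fintype Ω] (hΩ : Fintype.card Ω = 100)
    (G : Subgroup (Equiv.Perm Ω)) (htr : ∀ x y : Ω, ∃ g ∈ G, g x = y) (a : Ω)
    (e : ↥(MulAction.stabilizer ↥G a) ≃* ↥Cfsg.Spor.M22) : Nat.card ↥G = 44352000 := by
  classical
  have h1 := card_eq_orb_mul_stb G a
  have h2 : orb G a = Finset.univ := by
    apply Finset.eq_univ_of_forall
    intro y
    obtain ⟨g, hg, h⟩ := htr a y
    exact mem_orb.mpr ⟨g, hg, h⟩
  have h3 : Nat.card ↥(stb G a) = Nat.card ↥(MulAction.stabilizer ↥G a) := by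
    apply Nat.card_congr
    exact
      { toFun := fun k => ⟨⟨k.1, (mem_stb.mp k.2).1⟩, (mem_stb.mp k.2).2⟩
        invFun := fun k => ⟨k.1.1, mem_stb.mpr ⟨k.1.2, k.2⟩⟩
        left_inv := fun _ => rfl
        right_inv := fun _ => rfl }
  rw [h2, Finset.card_univ, hΩ, h3, Nat.card_congr e.toEquiv,
    Cfsg.Agent.Lib.Helper1.PermCode.card_M22] at h1
  rw [h1]

theorem main_rank3 {Ω : Type*} [Fintype Ω] (hΩ : Fintype.card Ω = 100)
    (G : Subgroup (Equiv.Perm Ω)) [MulAction.IsPretransitive ↥G Ω] (a : Ω)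
    (e : ↥(MulAction.stabilizer ↥G a) ≃* ↥Cfsg.Spor.M22) (b c : Ω)
    (hb : (MulAction.orbit ↥(MulAction.stabilizer ↥G a) b).ncard = 22)
    (hc : (MulAction.orbit ↥(MulAction.stabilizer ↥G a) c).ncard = 77) :
    Nonempty (↥G ≃* ↥Cfsg.Spor.HS) := by
  classical
  have htr : ∀ x y : Ω, ∃ g ∈ G, g x = y := by
    intro x y
    obtain ⟨g, hg⟩ := MulAction.exists_smul_eq ↥G x y
    exact ⟨g.1, g.2, hg⟩
  have H : Rk3 G a b c :=
    { card := hΩ
      trans := htr
      cb := by rw [card_orb_eq, hb]
      cc := by rw [card_orb_eq, hc]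
      two := fun w hw z hz w' hw' z' hz' h1 h2 =>
        two_of_equiv G a e b hb w z w' z' hw hz hw' hz' h1 h2 }
  have fΓ := facts H
  -- the isomorphism with the standard graph
  have e1 := graphIso (Gam G a b) fΓ a
  have hB := blocks_steiner (Gam G a b) fΓ a
  have hα : Fintype.card ↥(N (Gam G a b) a) = 22 := by rw [Fintype.card_coe, fΓ.deg]
  obtain ⟨e2, he⟩ := W22.unique hα hB
  change mapSys e2 _ = S22 at he
  let ψ : Gam G a b ≃g pointBlockGraph S22 := e1.trans (isoOf _ S22 e2 he)
  -- the homomorphism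
  let τ0 : ↥G →* (Gam G a b ≃g Gam G a b) :=
    { toFun := fun g => toAut H g.1 g.2
      map_one' := RelIso.ext fun _ => rfl
      map_mul' := fun _ _ => RelIso.ext fun _ => rfl }
  have hτ0 : Function.Injective τ0 := by
    intro g g' h
    apply Subtype.ext
    apply Equiv.ext
    intro x
    have := congrArg (fun f : Gam G a b ≃g Gam G a b => f x) h
    exact this
  let τ : ↥G →* GA S22 := (cj ψ).comp τ0
  have hτi : Function.Injective τ := (cj_injective ψ).comp hτ0
  have hGcard := card_of_rank3 hΩ G htr a e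
  have : Finite ↥G := Nat.finite_of_card_ne_zero (by rw [hGcard]; norm_num)
  obtain ⟨⟨eHS⟩, hH0⟩ := nonempty_HS_equiv
  have : Finite ↥H0 := Nat.finite_of_card_ne_zero (by rw [hH0.2]; norm_num)
  have : IsSimpleGroup ↥H0 := hH0.1
  let σ : ↥G →* ℤˣ := (sgn (pointBlockGraph S22)).comp τ
  have hmemH0 : ∀ g : ↥G, τ g ∈ H0 ↔ g ∈ σ.ker := by
    intro g
    show τ g ∈ (sgn (pointBlockGraph S22)).ker ↔ g ∈ σ.ker
    rw [MonoidHom.mem_ker, MonoidHom.mem_ker]
    rfl
  have hker : σ.ker = ⊤ := by
    by_contra hne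
    have h1 : Nat.card σ.ker * Nat.card σ.range = 44352000 := by
      rw [← Subgroup.index_ker, Subgroup.card_mul_index, hGcard]
    have h2 : Nat.card σ.range ∣ 2 := by
      have := Subgroup.card_subgroup_dvd_card σ.range
      rwa [Nat.card_eq_fintype_card (α := ℤˣ), Fintype.card_units_int] at this
    have h3 : Nat.card σ.range = 1 ∨ Nat.card σ.range = 2 := by
      have := Nat.le_of_dvd (by norm_num) h2
      have hpos : 0 < Nat.card σ.range := Nat.card_pos
      interval_cases h : Nat.card σ.range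
      · left; rfl
      · right; rfl
    rcases h3 with h3 | h3
    · apply hne
      apply Subgroup.eq_top_of_card_eq
      rw [hGcard]
      rw [h3] at h1
      omega
    · have hkc : Nat.card σ.ker = 22176000 := by rw [h3] at h1; omega
      let τ1 : ↥σ.ker →* ↥H0 :=
        (τ.comp σ.ker.subtype).codRestrict H0 (fun g => (hmemH0 g.1).mpr g.2)
      have hτ1 : Function.Injective τ1 := by
        intro g g' h
        apply Subtype.ext
        apply hτi
        exact congrArg Subtype.val h
      have hLc : Nat.card τ1.range = 22176000 := by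
        rw [← hkc]
        exact Nat.card_congr (MonoidHom.ofInjective hτ1).symm.toEquiv
      have hidx : τ1.range.index = 2 := by
        have := Subgroup.card_mul_index τ1.range
        rw [hLc, hH0.2] at this
        omega
      have := Subgroup.normal_of_index_eq_two hidx
      rcases Subgroup.Normal.eq_bot_or_eq_top (H := τ1.range) inferInstance with hb | ht
      · rw [hb, Subgroup.card_bot] at hLc
        omega
      · rw [ht, Subgroup.card_top, hH0.2] at hLc
        omega
  have hτm : ∀ g : ↥G, τ g ∈ H0 := by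
    intro g
    rw [hmemH0, hker]
    trivial
  let τ' : ↥G →* ↥H0 := τ.codRestrict H0 hτm
  have hτ'i : Function.Injective τ' := by
    intro g g' h
    exact hτi (congrArg Subtype.val h)
  have hbij : Function.Bijective τ' :=
    hτ'i.bijective_of_nat_card_le (by rw [hH0.2, hGcard])
  exact ⟨(MulEquiv.ofBijective τ' hbij).trans eHS.symm⟩

end Cfsg.Agent.Lib.Helper1.HSI
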