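import Cfsg.Agent.Lib.Helper1.HSRk.M22Idx

/-!
# The Mathieu group of degree 22 is doubly transitive on the cosets of a subgroup of index 22
-/

set_option autoImplicit false
set_option linter.unusedSectionVars false

namespace Cfsg.Agent.Lib.Helper1.HSRk

open Cfsg Cfsg.Agent.Lib.Helper6.M24Idx

/-- the orbit of a third point -/
theorem X22_subset_orb (r : GolayPt) (hr : r ∈ X22) : X22 ⊆ orb Cfsg.Spor.M22 r := by
  intro x hx
  rw [mem_X22] at hr hx
  obtain ⟨g, hg, hmap⟩ := trans_list [none, some 0, r] [none, some 0, x]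
    (by
      rw [List.nodup_cons, List.nodup_cons]
      refine ⟨?_, ?_, List.nodup_singleton _⟩
      · simp only [List.mem_cons, List.not_mem_nil, or_false, not_or]
        exact ⟨by decide, fun h => hr.2 h.symm⟩
      · simp only [List.mem_singleton]
        exact fun h => hr.1 h.symm)
    (by
      rw [List.nodup_cons, List.nodup_cons]
      refine ⟨?_, ?_, List.nodup_singleton _⟩
      · simp only [List.mem_cons, List.not_mem_nil, or_false, not_or]
        exact ⟨by decide, fun h => hx.2 h.symm⟩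
      · simp only [List.mem_singleton]
        exact fun h => hx.1 h.symm)
    rfl (by simp)
  simp only [List.map_cons, List.map_nil, List.cons.injEq, and_true] at hmap
  exact mem_orb.mpr ⟨g, (mem_M22_iff g).mpr ⟨hg, hmap.1, hmap.2.1⟩, hmap.2.2⟩

/-- a subgroup of order 20160 is the stabilizer of a third point -/
theorem eq_stb (H : Subgroup (Equiv.Perm GolayPt)) (hH : H ≤ Cfsg.Spor.M22)
    (hc : Nat.card H = 20160) : ∃ r ∈ X22, H = stb Cfsg.Spor.M22 r := by
  obtain ⟨r, hr, hfix⟩ := exists_fixed_pt H hH hc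
  refine ⟨r, hr, ?_⟩
  have hle : H ≤ stb Cfsg.Spor.M22 r := fun h hh => mem_stb.mpr ⟨hH hh, hfix h hh⟩
  have h1 := card_eq_orb_mul_stb Cfsg.Spor.M22 r
  rw [Cfsg.Agent.Lib.Helper1.PermCode.card_M22] at h1
  have h2 : 22 ≤ (orb Cfsg.Spor.M22 r).card :=
    card_X22.symm.trans_le (Finset.card_le_card (X22_subset_orb r hr))
  have h3 : Nat.card (stb Cfsg.Spor.M22 r) ≤ Nat.card H := by
    rw [hc]
    by_contra hcon
    push Not at hcon
    have : 22 * 20161 ≤ (orb Cfsg.Spor.M22 r).card * Nat.card (stb Cfsg.Spor.M22 r) :=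
      Nat.mul_le_mul h2 hcon
    omega
  exact Subgroup.eq_of_le_of_card_ge hle h3

/-- the two double cosets -/
theorem m22_two (S : Subgroup ↥Cfsg.Spor.M22) (hS : S.index = 22) (m m' : ↥Cfsg.Spor.M22)
    (hm : m ∉ S) (hm' : m' ∉ S) : ∃ s ∈ S, ∃ s' ∈ S, m' = s * m * s' := by
  set H : Subgroup (Equiv.Perm GolayPt) := S.map (Cfsg.Spor.M22).subtype with hHdef
  have hH : H ≤ Cfsg.Spor.M22 := by
    rintro _ ⟨x, _, rfl⟩
    exact x.2
  have hmemH : ∀ x : ↥Cfsg.Spor.M22, x.1 ∈ H ↔ x ∈ S := by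
    intro x
    constructor
    · rintro ⟨y, hy, hyx⟩
      have : y = x := Subtype.ext hyx
      rw [← this]; exact hy
    · intro hx
      exact ⟨x, hx, rfl⟩
  have hc : Nat.card H = 20160 := by
    have h1 : Nat.card H = Nat.card S :=
      Nat.card_congr (S.equivMapOfInjective _ (Subgroup.subtype_injective _)).symm.toEquiv
    have h2 := Subgroup.card_mul_index S
    rw [hS, Cfsg.Agent.Lib.Helper1.PermCode.card_M22] at h2
    rw [h1]
    omega
  obtain ⟨r, hr, hHr⟩ := eq_stb H hH hc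
  have hmemS : ∀ x : ↥Cfsg.Spor.M22, x ∈ S ↔ x.1 r = r := by
    intro x
    rw [← hmemH, hHr, mem_stb]
    exact ⟨fun h => h.2, fun h => ⟨x.2, h⟩⟩
  have hmr : m.1 r ≠ r := fun h => hm ((hmemS m).mpr h)
  have hmr' : m'.1 r ≠ r := fun h => hm' ((hmemS m').mpr h)
  rw [mem_X22] at hr
  have hm0 := (mem_M22_iff m.1).mp m.2
  have hm0' := (mem_M22_iff m'.1).mp m'.2
  -- an element fixing the three points and mapping the image to the image
  have hnd : ∀ (u : Equiv.Perm GolayPt), u none = none → u (some 0) = some 0 → u r ≠ r →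
      [none, some 0, r, u r].Nodup := by
    intro u hu1 hu2 hur
    have e1 : u r ≠ none := fun h => hr.2 (u.injective (h.trans hu1.symm))
    have e2 : u r ≠ some 0 := fun h => hr.1 (u.injective (h.trans hu2.symm))
    rw [List.nodup_cons, List.nodup_cons, List.nodup_cons]
    refine ⟨?_, ?_, ?_, List.nodup_singleton _⟩
    · simp only [List.mem_cons, List.not_mem_nil, or_false, not_or]
      exact ⟨by decide, fun h => hr.2 h.symm, fun h => e1 h.symm⟩
    · simp only [List.mem_cons, List.not_mem_nil, or_false, not_or]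
      exact ⟨fun h => hr.1 h.symm, fun h => e2 h.symm⟩
    · simp only [List.mem_singleton]
      exact fun h => hur h.symm
  obtain ⟨g, hg, hmap⟩ := trans_list [none, some 0, r, m.1 r] [none, some 0, r, m'.1 r]
    (hnd m.1 hm0.2.1 hm0.2.2 hmr) (hnd m'.1 hm0'.2.1 hm0'.2.2 hmr') rfl (by simp)
  simp only [List.map_cons, List.map_nil, List.cons.injEq, and_true] at hmap
  obtain ⟨hg1, hg2, hg3, hg4⟩ := hmap
  have hgM : g ∈ Cfsg.Spor.M22 := (mem_M22_iff g).mpr ⟨hg, hg1, hg2⟩
  let s : ↥Cfsg.Spor.M22 := ⟨g, hgM⟩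
  have hsS : s ∈ S := (hmemS s).mpr hg3
  have hs'S : m⁻¹ * s⁻¹ * m' ∈ S := by
    rw [hmemS]
    show (m.1⁻¹ * g⁻¹ * m'.1) r = r
    rw [Equiv.Perm.mul_apply, Equiv.Perm.mul_apply, ← hg4, perm_inv_apply, perm_inv_apply]
  refine ⟨s, hsS, m⁻¹ * s⁻¹ * m', hs'S, ?_⟩
  group

end Cfsg.Agent.Lib.Helper1.HSRk
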