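import Cfsg.Agent.Lib.Helper1.HSRk.Orbital2
import Cfsg.Agent.Lib.Helper1.HSRk.M22Idx2

/-!
# The hypotheses of the orbital graph from the stabilizer of a point
-/

set_option autoImplicit false
set_option linter.unusedSectionVars false

namespace Cfsg.Agent.Lib.Helper1.HSRk

open Cfsg Cfsg.Agent.Lib.Helper6.M24Idx
open scoped Classical

section

variable {Ω : Type*} [Fintype Ω] (G : Subgroup (Equiv.Perm Ω)) (a : Ω)

theorem smul_eq (k : ↥(MulAction.stabilizer ↥G a)) (x : Ω) : k • x = k.1.1 x := rfl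

theorem mem_orb_iff_orbit (b y : Ω) :
    y ∈ orb (stb G a) b ↔ y ∈ MulAction.orbit ↥(MulAction.stabilizer ↥G a) b := by
  rw [mem_orb, MulAction.mem_orbit_iff]
  constructor
  · rintro ⟨g, hg, rfl⟩
    obtain ⟨hgG, hga⟩ := mem_stb.mp hg
    exact ⟨⟨⟨g, hgG⟩, hga⟩, rfl⟩
  · rintro ⟨k, rfl⟩
    exact ⟨k.1.1, mem_stb.mpr ⟨k.1.2, k.2⟩, rfl⟩

theorem card_orb_eq (b : Ω) :
    (orb (stb G a) b).card = (MulAction.orbit ↥(MulAction.stabilizer ↥G a) b).ncard := by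
  rw [← Set.ncard_coe_finset]
  congr 1
  ext y
  rw [Finset.mem_coe]
  exact mem_orb_iff_orbit G a b y

/-- the stabilizer is doubly transitive on the orbit of 22 points -/
theorem two_of_equiv (e : ↥(MulAction.stabilizer ↥G a) ≃* ↥Cfsg.Spor.M22) (b : Ω)
    (hb : (MulAction.orbit ↥(MulAction.stabilizer ↥G a) b).ncard = 22)
    (w z w' z' : Ω) (hw : w ∈ orb (stb G a) b) (hz : z ∈ orb (stb G a) b)
    (hw' : w' ∈ orb (stb G a) b) (hz' : z' ∈ orb (stb G a) b) (hwz : w ≠ z) (hwz' : w' ≠ z') :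
    ∃ k ∈ stb G a, k w = w' ∧ k z = z' := by
  set Ka := MulAction.stabilizer ↥G a with hKa
  set Sb : Subgroup ↥Ka := MulAction.stabilizer ↥Ka b with hSb
  have hidx : Sb.index = 22 := by rw [hSb, MulAction.index_stabilizer, hb]
  have hidx' : (Sb.map e.toMonoidHom).index = 22 := (Subgroup.index_map_equiv Sb e).trans hidx
  have hmemS : ∀ k : ↥Ka, e k ∈ Sb.map e.toMonoidHom ↔ k ∈ Sb := by
    intro k
    constructor
    · rintro ⟨k0, hk0, hk⟩
      have : k0 = k := e.injective hk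
      rw [← this]; exact hk0
    · intro hk
      exact ⟨k, hk, rfl⟩
  have hdc : ∀ k k' : ↥Ka, k ∉ Sb → k' ∉ Sb → ∃ t ∈ Sb, ∃ t' ∈ Sb, k' = t * k * t' := by
    intro k k' hk hk'
    obtain ⟨s, hs, s', hs', h⟩ := m22_two (Sb.map e.toMonoidHom) hidx' (e k) (e k')
      (fun h => hk ((hmemS k).mp h)) (fun h => hk' ((hmemS k').mp h))
    obtain ⟨t, ht, rfl⟩ := hs
    obtain ⟨t', ht', rfl⟩ := hs'
    refine ⟨t, ht, t', ht', ?_⟩
    apply e.injective
    rw [h, map_mul, map_mul]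
    rfl
  rw [mem_orb_iff_orbit, MulAction.mem_orbit_iff] at hw hz hw' hz'
  obtain ⟨k1, rfl⟩ := hw
  obtain ⟨k2, rfl⟩ := hz
  obtain ⟨k1', rfl⟩ := hw'
  obtain ⟨k2', rfl⟩ := hz'
  have hk : k1⁻¹ * k2 ∉ Sb := by
    intro h
    rw [hSb, MulAction.mem_stabilizer_iff, mul_smul, inv_smul_eq_iff] at h
    exact hwz h.symm
  have hk' : k1'⁻¹ * k2' ∉ Sb := by
    intro h
    rw [hSb, MulAction.mem_stabilizer_iff, mul_smul, inv_smul_eq_iff] at h
    exact hwz' h.symm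
  obtain ⟨t, ht, t', ht', h⟩ := hdc _ _ hk hk'
  have htb : t • b = b := ht
  have htb' : t' • b = b := ht'
  refine ⟨(k1' * t * k1⁻¹).1.1, mem_stb.mpr ⟨(k1' * t * k1⁻¹).1.2, (k1' * t * k1⁻¹).2⟩, ?_, ?_⟩
  · show (k1' * t * k1⁻¹) • (k1 • b) = k1' • b
    rw [mul_smul, mul_smul, inv_smul_smul, htb]
  · show (k1' * t * k1⁻¹) • (k2 • b) = k2' • b
    have h1 : k2' = k1' * (t * (k1⁻¹ * k2) * t') := by rw [← h]; group
    rw [h1]
    simp only [mul_smul]
    rw [htb']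

end

end Cfsg.Agent.Lib.Helper1.HSRk
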