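import Cfsg.Agent.Lib.Helper1.HSRk.M22Two

/-!
# The subgroups of index 22 of the Mathieu group of degree 22 (continued)
-/

set_option autoImplicit false
set_option linter.unusedSectionVars false

namespace Cfsg.Agent.Lib.Helper1.HSRk

open Cfsg Cfsg.Agent.Lib.Helper6.M24Idx

/-- the points other than the two fixed points -/
def X22 : Finset GolayPt := (Finset.univ.erase (none : GolayPt)).erase (some 0)

theorem mem_X22 (x : GolayPt) : x ∈ X22 ↔ x ≠ some 0 ∧ x ≠ none := by
  unfold X22
  simp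

theorem card_X22 : X22.card = 22 := by decide

theorem inv_X22 (H : Subgroup (Equiv.Perm GolayPt)) (hH : H ≤ Cfsg.Spor.M22) : Inv H X22 := by
  intro h hh x hx
  rw [mem_X22] at hx ⊢
  have h1 := (mem_M22_iff h).mp (hH hh)
  constructor
  · intro h2
    apply hx.1
    exact h.injective (h2.trans h1.2.2.symm)
  · intro h2
    apply hx.2
    exact h.injective (h2.trans h1.2.1.symm)

/-- no invariant set of seven points -/
theorem no_seven (H : Subgroup (Equiv.Perm GolayPt)) (hH : H ≤ Cfsg.Spor.M22)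
    (hc : Nat.card H = 20160) (T : Finset GolayPt) (hT : T.card = 7) (hTX : T ⊆ X22)
    (hinv : Inv H T) : False := by
  classical
  let act : MulAction ↥H {x // x ∈ T} :=
    { smul := fun h x => ⟨h.1 x.1, hinv h.1 h.2 x.1 x.2⟩
      one_smul := fun x => Subtype.ext rfl
      mul_smul := fun g h x => Subtype.ext rfl }
  have hact : ∀ (h : ↥H) (x : {x // x ∈ T}), ((h • x : {x // x ∈ T}) : GolayPt) = h.1 x.1 :=
    fun _ _ => rfl
  let φ := MulAction.toPermHom ↥H {x // x ∈ T}
  have h1 : Nat.card φ.range ∣ 5040 := by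
    have h := Subgroup.card_subgroup_dvd_card φ.range
    rw [Nat.card_eq_fintype_card (α := Equiv.Perm {x // x ∈ T}), Fintype.card_perm,
      Fintype.card_coe, hT] at h
    exact h
  have h2 : Nat.card φ.ker * Nat.card φ.range = 20160 := by
    rw [← Subgroup.index_ker, Subgroup.card_mul_index, hc]
  have h3 : 2 ∣ Nat.card φ.ker := by
    obtain ⟨q, hq⟩ := h1
    have hpos : 0 < Nat.card φ.range := Nat.card_pos
    have h4 : Nat.card φ.ker * Nat.card φ.range = (4 * q) * Nat.card φ.range := by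
      rw [h2]
      calc 20160 = 4 * 5040 := by norm_num
        _ = 4 * (Nat.card φ.range * q) := by rw [hq]
        _ = (4 * q) * Nat.card φ.range := by ring
    have h5 := Nat.eq_of_mul_eq_mul_right hpos h4
    rw [h5]
    exact ⟨2 * q, by ring⟩
  have : Fact (Nat.Prime 2) := ⟨Nat.prime_two⟩
  obtain ⟨g, hgk, hg2, hgne⟩ := exists_prime_order φ.ker 2 h3
  have hgM : g.1 ∈ M24 := M22_le_M24 (hH g.2)
  have hg2' : g.1 ^ 2 = 1 := by
    have := congrArg Subtype.val hg2
    simpa using this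
  have hgne' : g.1 ≠ 1 := by
    intro h
    apply hgne
    exact Subtype.ext h
  have hfixT : ∀ x ∈ T, g.1 x = x := by
    intro x hx
    rw [MonoidHom.mem_ker] at hgk
    have h4 : φ g ⟨x, hx⟩ = ⟨x, hx⟩ := by rw [hgk]; rfl
    have h5 := congrArg Subtype.val h4
    exact h5
  have h0 := (mem_M22_iff g.1).mp (hH g.2)
  have hsub : insert none (insert (some 0) T) ⊆ fixF g.1 := by
    intro x hx
    rw [mem_fixF]
    rw [Finset.mem_insert, Finset.mem_insert] at hx
    rcases hx with rfl | rfl | hx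
    · exact h0.2.1
    · exact h0.2.2
    · exact hfixT x hx
  have hcard : (insert none (insert (some 0) T)).card = 9 := by
    rw [Finset.card_insert_of_notMem, Finset.card_insert_of_notMem, hT]
    · intro h
      exact ((mem_X22 _).mp (hTX h)).1 rfl
    · rw [Finset.mem_insert]
      rintro (h | h)
      · exact absurd h (by decide)
      · exact ((mem_X22 _).mp (hTX h)).2 rfl
  have h8 := card_fix_two hgM hg2' hgne'
  have h9 := Finset.card_le_card hsub
  omega

/-- a subgroup of order 20160 fixes a third point -/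
theorem exists_fixed_pt (H : Subgroup (Equiv.Perm GolayPt)) (hH : H ≤ Cfsg.Spor.M22)
    (hc : Nat.card H = 20160) : ∃ r ∈ X22, ∀ h ∈ H, h r = r := by
  classical
  have hM : H ≤ M24 := hH.trans M22_le_M24
  have hfix0 : ∀ h ∈ H, h none = none ∧ h (some 0) = some 0 :=
    fun h hh => ((mem_M22_iff h).mp (hH hh)).2
  have : Fact (Nat.Prime 7) := ⟨by norm_num⟩
  have : Fact (Nat.Prime 5) := ⟨by norm_num⟩
  obtain ⟨g7, hg7H, hg7p, hg7ne⟩ := exists_prime_order H 7 (by rw [hc]; norm_num)
  have h3 := card_fix_seven (hM hg7H) hg7p hg7ne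
  have hn7 : (none : GolayPt) ∈ fixF g7 := mem_fixF.mpr (hfix0 g7 hg7H).1
  have hz7 : (some 0 : GolayPt) ∈ fixF g7 := mem_fixF.mpr (hfix0 g7 hg7H).2
  have hc1 : (((fixF g7).erase none).erase (some 0)).card = 1 := by
    rw [Finset.card_erase_of_mem, Finset.card_erase_of_mem hn7, h3]
    exact Finset.mem_erase.mpr ⟨by decide, hz7⟩
  obtain ⟨r, hr⟩ := Finset.card_eq_one.mp hc1
  have hrmem : r ∈ ((fixF g7).erase none).erase (some 0) := by
    rw [hr]; exact Finset.mem_singleton_self r
  rw [Finset.mem_erase, Finset.mem_erase] at hrmem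
  obtain ⟨hrz, hrn, hrF⟩ := hrmem
  have hrX : r ∈ X22 := (mem_X22 r).mpr ⟨hrz, hrn⟩
  have hfix7 : ∀ x ∈ fixF g7, x ∈ X22 → x = r := by
    intro x hx hxX
    have : x ∈ ((fixF g7).erase none).erase (some 0) := by
      rw [Finset.mem_erase, Finset.mem_erase]
      exact ⟨((mem_X22 x).mp hxX).1, ((mem_X22 x).mp hxX).2, hx⟩
    rw [hr, Finset.mem_singleton] at this
    exact this
  -- the orbit of the point
  have hOX : orb H r ⊆ X22 := (inv_X22 H hH).orb_subset hrX
  have hOle : (orb H r).card ≤ 22 := (Finset.card_le_card hOX).trans_eq card_X22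
  have hOinv := inv_orb H r
  have hOfix7 : orb H r ∩ fixF g7 = {r} := by
    ext x
    rw [Finset.mem_inter, Finset.mem_singleton]
    constructor
    · rintro ⟨h1, h2⟩
      exact hfix7 x h2 (hOX h1)
    · rintro rfl
      exact ⟨self_mem_orb H x, hrF⟩
  have hmod7 := card_modEq_fix g7 7 hg7p (orb H r) (fun x hx => hOinv g7 hg7H x hx)
  rw [hOfix7, Finset.card_singleton] at hmod7
  have hdvd : (orb H r).card ∣ 20160 := hc ▸ card_orb_dvd H r
  obtain ⟨g5, hg5H, hg5p, hg5ne⟩ := exists_prime_order H 5 (by rw [hc]; norm_num)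
  have h4 := card_fix_five (hM hg5H) hg5p hg5ne
  have hn5 : (none : GolayPt) ∈ fixF g5 := mem_fixF.mpr (hfix0 g5 hg5H).1
  have hz5 : (some 0 : GolayPt) ∈ fixF g5 := mem_fixF.mpr (hfix0 g5 hg5H).2
  have hc2 : (((fixF g5).erase none).erase (some 0)).card = 2 := by
    rw [Finset.card_erase_of_mem, Finset.card_erase_of_mem hn5, h4]
    exact Finset.mem_erase.mpr ⟨by decide, hz5⟩
  have hO5 : (orb H r ∩ fixF g5).card ≤ 2 := by
    rw [← hc2]
    apply Finset.card_le_card
    intro x hx
    rw [Finset.mem_inter] at hx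
    rw [Finset.mem_erase, Finset.mem_erase]
    exact ⟨((mem_X22 x).mp (hOX hx.1)).1, ((mem_X22 x).mp (hOX hx.1)).2, hx.2⟩
  have hmod5 := card_modEq_fix g5 5 hg5p (orb H r) (fun x hx => hOinv g5 hg5H x hx)
  have hOpos : 0 < (orb H r).card := Finset.card_pos.mpr ⟨r, self_mem_orb H r⟩
  have hgen : ∀ n j : ℕ, n % 7 = 1 % 7 → n ∣ 20160 → n ≤ 22 → 0 < n → j ≤ 2 → n % 5 = j % 5 →
      n = 1 ∨ n = 15 := by
    intro n j h1 h2 h3 h4 h5 h6
    interval_cases n <;> omega
  have hcases : (orb H r).card = 1 ∨ (orb H r).card = 15 :=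
    hgen _ _ hmod7 hdvd hOle hOpos hO5 hmod5
  rcases hcases with h1 | h15
  · refine ⟨r, hrX, ?_⟩
    intro h hh
    have h2 : h r ∈ orb H r := mem_orb.mpr ⟨h, hh, rfl⟩
    obtain ⟨y, hy⟩ := Finset.card_eq_one.mp h1
    have h3 : r ∈ orb H r := self_mem_orb H r
    rw [hy, Finset.mem_singleton] at h2 h3
    rw [h2, h3]
  · exfalso
    apply no_seven H hH hc (X22 \ orb H r)
    · have h := Finset.card_sdiff_add_card_inter X22 (orb H r)
      rw [Finset.inter_eq_right.mpr hOX, card_X22, h15] at h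
      omega
    · exact Finset.sdiff_subset
    · exact (inv_X22 H hH).sdiff hOinv

end Cfsg.Agent.Lib.Helper1.HSRk
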