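import Cfsg.Agent.Lib.Helper6.M24Idx.Facts2
import Cfsg.Agent.Lib.Helper1.MathieuMem

/-!
# The subgroups of index 22 of the Mathieu group of degree 22 are the stabilizers of the points
-/

set_option autoImplicit false
set_option linter.unusedSectionVars false

namespace Cfsg.Agent.Lib.Helper1.HSRk

open Cfsg Cfsg.Agent.Lib.Helper6.M24Idx
open Cfsg.Agent.Lib.Helper9.M24 (image_mem_octads eq_one_of_fixes)

theorem mem_M22_iff (g : Equiv.Perm GolayPt) :
    g ∈ Cfsg.Spor.M22 ↔ g ∈ M24 ∧ g none = none ∧ g (some 0) = some 0 := by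
  unfold Cfsg.Spor.M22 Cfsg.Spor.M23
  simp only [Subgroup.mem_inf, MulAction.mem_stabilizer_iff, Equiv.Perm.smul_def]
  tauto

theorem M22_le_M24 : Cfsg.Spor.M22 ≤ M24 := fun g hg => ((mem_M22_iff g).mp hg).1

/-- an involution of the large Mathieu group has at most 8 fixed points -/
theorem card_fix_two {g : Equiv.Perm GolayPt} (hg : g ∈ M24) (hg2 : g ^ 2 = 1) (hne : g ≠ 1) :
    (fixF g).card ≤ 8 := by
  by_contra hcon
  push Not at hcon
  obtain ⟨R5, hR5, hc⟩ := Finset.exists_subset_card_eq (show 5 ≤ (fixF g).card by omega)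
  obtain ⟨O, hO, hRO⟩ := exists_octad hc
  have hO8 : O.card = 8 := card_octad hO
  -- the octad is invariant
  have himg : O.image g = O := by
    have h1 : O.image g ∈ octads := image_mem_octads hg hO
    have h2 : R5 ⊆ O.image g := by
      intro x hx
      rw [Finset.mem_image]
      exact ⟨x, hRO hx, mem_fixF.mp (hR5 hx)⟩
    exact (octad_eq_of_five hO h1 (by omega) hRO h2).symm
  have hinvO : ∀ x ∈ O, g x ∈ O := by
    intro x hx
    rw [← himg]
    exact Finset.mem_image_of_mem _ hx
  -- a fixed point outside the octad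
  obtain ⟨x, hxF, hxO⟩ : ∃ x ∈ fixF g, x ∉ O := by
    by_contra hno
    push Not at hno
    have := Finset.card_le_card (show fixF g ⊆ O from hno)
    omega
  by_cases h6 : 6 ≤ (fixF g ∩ O).card
  · obtain ⟨P6, hP6, hc6⟩ := Finset.exists_subset_card_eq h6
    apply hne
    exact eq_one_of_fixes hg hO (fun p hp => (Finset.mem_inter.mp (hP6 hp)).2) hc6
      (fun p hp => mem_fixF.mp (Finset.mem_inter.mp (hP6 hp)).1) hxO (mem_fixF.mp hxF)
  · have h6' : (fixF g ∩ O).card ≤ 5 := by omega
    have h5 : 5 ≤ (fixF g ∩ O).card := by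
      rw [← hc]
      apply Finset.card_le_card
      intro y hy
      exact Finset.mem_inter.mpr ⟨hR5 hy, hRO hy⟩
    -- the three other points of the octad
    set W := O \ fixF g with hW
    have hWc : W.card = 3 := by
      rw [hW]
      have h : (O \ fixF g).card + (fixF g ∩ O).card = O.card := by
        rw [Finset.inter_comm]
        exact Finset.card_sdiff_add_card_inter O (fixF g)
      omega
    have hWinv : ∀ y ∈ W, g y ∈ W := by
      intro y hy
      rw [hW, Finset.mem_sdiff] at hy ⊢
      refine ⟨hinvO y hy.1, ?_⟩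
      intro h
      apply hy.2
      rw [mem_fixF] at h ⊢
      exact g.injective h
    have : Fact (Nat.Prime 2) := ⟨Nat.prime_two⟩
    have hmod := card_modEq_fix g 2 hg2 W hWinv
    have hemp : W ∩ fixF g = ∅ := by
      rw [hW]
      exact Finset.sdiff_inter_self _ _
    rw [hemp, hWc] at hmod
    unfold Nat.ModEq at hmod
    simp at hmod

end Cfsg.Agent.Lib.Helper1.HSRk
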