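import Cfsg.Agent.Lib.Helper6.M24Idx.Perm2
import Cfsg.Agent.Lib.Helper1.SRG100b

/-!
# The orbital graph of a group of rank 3 with subdegrees 1, 22, 77
-/

set_option autoImplicit false
set_option linter.unusedSectionVars false

namespace Cfsg.Agent.Lib.Helper1.HSRk

open Cfsg Finset Cfsg.Agent.Lib.Helper6.M24Idx Cfsg.Agent.Lib.Helper1.SRG100
open scoped Classical

noncomputable section

variable {Ω : Type*} [Fintype Ω] (G : Subgroup (Equiv.Perm Ω)) (a b c : Ω)

/-- the orbital relation of the pair `(a, b)` -/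
def Rel (x y : Ω) : Prop := ∃ g ∈ G, g a = x ∧ g b = y

/-- the hypotheses -/
structure Rk3 : Prop where
  card : Fintype.card Ω = 100
  trans : ∀ x y : Ω, ∃ g ∈ G, g x = y
  cb : (orb (stb G a) b).card = 22
  cc : (orb (stb G a) c).card = 77
  two : ∀ w ∈ orb (stb G a) b, ∀ z ∈ orb (stb G a) b, ∀ w' ∈ orb (stb G a) b,
    ∀ z' ∈ orb (stb G a) b, w ≠ z → w' ≠ z' → ∃ k ∈ stb G a, k w = w' ∧ k z = z'

variable {G a b c}

theorem rel_smul {x y : Ω} (h : Rel G a b x y) {g : Equiv.Perm Ω} (hg : g ∈ G) :
    Rel G a b (g x) (g y) := by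
  obtain ⟨g0, hg0, rfl, rfl⟩ := h
  exact ⟨g * g0, G.mul_mem hg hg0, rfl, rfl⟩

theorem rel_smul_iff {x y : Ω} {g : Equiv.Perm Ω} (hg : g ∈ G) :
    Rel G a b (g x) (g y) ↔ Rel G a b x y := by
  constructor
  · intro h
    have := rel_smul h (G.inv_mem hg)
    simpa using this
  · intro h
    exact rel_smul h hg

theorem rel_a_iff (y : Ω) : Rel G a b a y ↔ y ∈ orb (stb G a) b := by
  rw [mem_orb]
  constructor
  · rintro ⟨g, hg, h1, h2⟩
    exact ⟨g, mem_stb.mpr ⟨hg, h1⟩, h2⟩
  · rintro ⟨g, hg, h2⟩
    exact ⟨g, (mem_stb.mp hg).1, (mem_stb.mp hg).2, h2⟩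

/-- the out-neighbours -/
def out (G : Subgroup (Equiv.Perm Ω)) (a b : Ω) (x : Ω) : Finset Ω :=
  Finset.univ.filter fun y => Rel G a b x y

/-- the in-neighbours -/
def inn (G : Subgroup (Equiv.Perm Ω)) (a b : Ω) (y : Ω) : Finset Ω :=
  Finset.univ.filter fun x => Rel G a b x y

theorem mem_out {x y : Ω} : y ∈ out G a b x ↔ Rel G a b x y := by simp [out]

theorem mem_inn {x y : Ω} : x ∈ inn G a b y ↔ Rel G a b x y := by simp [inn]

theorem out_a : out G a b a = orb (stb G a) b := by
  ext y
  rw [mem_out, rel_a_iff]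

theorem out_smul (x : Ω) {g : Equiv.Perm Ω} (hg : g ∈ G) :
    out G a b (g x) = (out G a b x).image g := by
  ext y
  rw [mem_out, Finset.mem_image]
  constructor
  · intro h
    refine ⟨g⁻¹ y, ?_, by simp⟩
    rw [mem_out]
    have := rel_smul h (G.inv_mem hg)
    simpa using this
  · rintro ⟨z, hz, rfl⟩
    exact rel_smul (mem_out.mp hz) hg

theorem inn_smul (x : Ω) {g : Equiv.Perm Ω} (hg : g ∈ G) :
    inn G a b (g x) = (inn G a b x).image g := by
  ext y
  rw [mem_inn, Finset.mem_image]
  constructor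
  · intro h
    refine ⟨g⁻¹ y, ?_, by simp⟩
    rw [mem_inn]
    have := rel_smul h (G.inv_mem hg)
    simpa using this
  · rintro ⟨z, hz, rfl⟩
    exact rel_smul (mem_inn.mp hz) hg

section main

variable (H : Rk3 G a b c)
include H

theorem card_out (x : Ω) : (out G a b x).card = 22 := by
  obtain ⟨g, hg, rfl⟩ := H.trans a x
  rw [out_smul a hg, Finset.card_image_of_injective _ g.injective, out_a, H.cb]

theorem card_inn_eq (x : Ω) : (inn G a b x).card = (inn G a b a).card := by
  obtain ⟨g, hg, rfl⟩ := H.trans a x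
  rw [inn_smul a hg, Finset.card_image_of_injective _ g.injective]

theorem card_inn (x : Ω) : (inn G a b x).card = 22 := by
  have h := Finset.sum_card_bipartiteAbove_eq_sum_card_bipartiteBelow (s := (Finset.univ : Finset Ω))
    (t := (Finset.univ : Finset Ω)) (r := fun x y => Rel G a b x y)
  have h1 : ∀ x ∈ (Finset.univ : Finset Ω),
      ((Finset.univ : Finset Ω).bipartiteAbove (fun x y => Rel G a b x y) x).card = 22 := by
    intro x _
    exact card_out H x
  have h2 : ∀ y ∈ (Finset.univ : Finset Ω),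
      ((Finset.univ : Finset Ω).bipartiteBelow (fun x y => Rel G a b x y) y).card =
        (inn G a b a).card := by
    intro y _
    exact card_inn_eq H y
  rw [Finset.sum_congr rfl h1, Finset.sum_congr rfl h2, Finset.sum_const, Finset.sum_const,
    Finset.card_univ, H.card] at h
  rw [card_inn_eq H x]
  simp only [smul_eq_mul] at h
  omega

theorem a_not_mem_D : a ∉ orb (stb G a) b := by
  intro h
  obtain ⟨k, hk, hkb⟩ := mem_orb.mp h
  have hka := (mem_stb.mp hk).2
  have hba : b = a := k.injective (hkb.trans hka.symm)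
  have h1 : orb (stb G a) b = {a} := by
    ext y
    rw [mem_orb, Finset.mem_singleton, hba]
    constructor
    · rintro ⟨l, hl, rfl⟩
      exact (mem_stb.mp hl).2
    · rintro rfl
      exact ⟨1, (stb G y).one_mem, rfl⟩
  have := H.cb
  rw [h1] at this
  simp at this

theorem a_not_mem_D' : a ∉ orb (stb G a) c := by
  intro h
  obtain ⟨k, hk, hkb⟩ := mem_orb.mp h
  have hka := (mem_stb.mp hk).2
  have hba : c = a := k.injective (hkb.trans hka.symm)
  have h1 : orb (stb G a) c = {a} := by
    ext y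
    rw [mem_orb, Finset.mem_singleton, hba]
    constructor
    · rintro ⟨l, hl, rfl⟩
      exact (mem_stb.mp hl).2
    · rintro rfl
      exact ⟨1, (stb G y).one_mem, rfl⟩
  have := H.cc
  rw [h1] at this
  simp at this

theorem disj_D_D' : Disjoint (orb (stb G a) b) (orb (stb G a) c) := by
  rw [Finset.disjoint_left]
  intro y hy hy'
  have h1 := orb_eq_of_mem hy
  have h2 := orb_eq_of_mem hy'
  have h3 : (orb (stb G a) b).card = (orb (stb G a) c).card := by rw [← h1, h2]
  rw [H.cb, H.cc] at h3
  omega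

theorem cases_pt (y : Ω) : y = a ∨ y ∈ orb (stb G a) b ∨ y ∈ orb (stb G a) c := by
  have h1 : (insert a (orb (stb G a) b ∪ orb (stb G a) c)).card = 100 := by
    rw [Finset.card_insert_of_notMem, Finset.card_union_of_disjoint (disj_D_D' H), H.cb, H.cc]
    rw [Finset.mem_union]
    rintro (h | h)
    · exact a_not_mem_D H h
    · exact a_not_mem_D' H h
  have h2 : insert a (orb (stb G a) b ∪ orb (stb G a) c) = Finset.univ := by
    apply Finset.eq_univ_of_card
    rw [h1, H.card]
  have h3 := Finset.mem_univ y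
  rw [← h2, Finset.mem_insert, Finset.mem_union] at h3
  exact h3

theorem a_ne_b : a ≠ b := by
  intro h
  apply a_not_mem_D H
  rw [h]
  exact self_mem_orb _ _

theorem rel_ne {x y : Ω} (h : Rel G a b x y) : x ≠ y := by
  obtain ⟨g, _, rfl, rfl⟩ := h
  intro h1
  exact a_ne_b H (g.injective h1)

/-- the orbital is self-paired -/
theorem rel_b_a : Rel G a b b a := by
  -- the in-neighbours of `a` form an invariant set of 22 points
  have hinv : ∀ k ∈ stb G a, ∀ y ∈ inn G a b a, k y ∈ inn G a b a := by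
    intro k hk y hy
    rw [mem_inn] at hy ⊢
    have := rel_smul hy (mem_stb.mp hk).1
    rwa [(mem_stb.mp hk).2] at this
  have hsub : inn G a b a ⊆ orb (stb G a) b := by
    intro y hy
    rcases cases_pt H y with rfl | h | h
    · exact absurd rfl (rel_ne H (mem_inn.mp hy))
    · exact h
    · exfalso
      have h1 : orb (stb G a) c ⊆ inn G a b a := by
        intro z hz
        have h2 : z ∈ orb (stb G a) y := by rw [orb_eq_of_mem h]; exact hz
        obtain ⟨k, hk, rfl⟩ := mem_orb.mp h2
        exact hinv k hk y hy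
      have h3 := Finset.card_le_card h1
      rw [H.cc, card_inn H] at h3
      omega
  have heq : inn G a b a = orb (stb G a) b := by
    apply Finset.eq_of_subset_of_card_le hsub
    rw [H.cb, card_inn H]
  have hb : b ∈ inn G a b a := by rw [heq]; exact self_mem_orb _ _
  exact mem_inn.mp hb

theorem rel_symm {x y : Ω} (h : Rel G a b x y) : Rel G a b y x := by
  obtain ⟨g, hg, rfl, rfl⟩ := h
  exact rel_smul (rel_b_a H) hg

end main

end

end Cfsg.Agent.Lib.Helper1.HSRk
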