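import Cfsg.Agent.Lib.Helper1.HSRk.Orbital

/-!
# The orbital graph is strongly regular with parameters `(100, 22, 0, 6)`
-/

set_option autoImplicit false
set_option linter.unusedSectionVars false

namespace Cfsg.Agent.Lib.Helper1.HSRk

open Cfsg Finset Cfsg.Agent.Lib.Helper6.M24Idx Cfsg.Agent.Lib.Helper1.SRG100
open scoped Classical

noncomputable section

variable {Ω : Type*} [Fintype Ω] (G : Subgroup (Equiv.Perm Ω)) (a b c : Ω)

/-- the orbital graph -/
def Gam : SimpleGraph Ω := SimpleGraph.fromRel (Rel G a b)

variable {G a b c}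

section main

variable (H : Rk3 G a b c)
include H

theorem gam_adj (x y : Ω) : (Gam G a b).Adj x y ↔ Rel G a b x y := by
  rw [Gam, SimpleGraph.fromRel_adj]
  constructor
  · rintro ⟨_, h | h⟩
    · exact h
    · exact rel_symm H h
  · intro h
    exact ⟨rel_ne H h, Or.inl h⟩

theorem N_eq_out (x : Ω) : N (Gam G a b) x = out G a b x := by
  ext y
  rw [mem_N, gam_adj H, mem_out]

/-- the automorphisms -/
def toAut (g : Equiv.Perm Ω) (hg : g ∈ G) : Gam G a b ≃g Gam G a b where
  toEquiv := g
  map_rel_iff' := by
    intro x y
    rw [gam_adj H, gam_adj H]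
    exact rel_smul_iff hg

theorem toAut_apply (g : Equiv.Perm Ω) (hg : g ∈ G) (x : Ω) : toAut H g hg x = g x := rfl

/-- the triangles -/
theorem no_triangle (v w z : Ω) (hvw : Rel G a b v w) (hvz : Rel G a b v z) (hwz : Rel G a b w z) :
    False := by
  -- move `v` to `a`
  obtain ⟨g, hg, rfl⟩ := H.trans a v
  have hvw' : Rel G a b a (g⁻¹ w) := by
    have := rel_smul hvw (G.inv_mem hg); simpa using this
  have hvz' : Rel G a b a (g⁻¹ z) := by
    have := rel_smul hvz (G.inv_mem hg); simpa using this
  have hwz' : Rel G a b (g⁻¹ w) (g⁻¹ z) := rel_smul hwz (G.inv_mem hg)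
  set w' := g⁻¹ w
  set z' := g⁻¹ z
  have hwD : w' ∈ orb (stb G a) b := (rel_a_iff _).mp hvw'
  have hzD : z' ∈ orb (stb G a) b := (rel_a_iff _).mp hvz'
  have hne : w' ≠ z' := rel_ne H hwz'
  -- the suborbit is a clique
  have hcl : ∀ p ∈ orb (stb G a) b, ∀ q ∈ orb (stb G a) b, p ≠ q → Rel G a b p q := by
    intro p hp q hq hpq
    obtain ⟨k, hk, rfl, rfl⟩ := H.two w' hwD z' hzD p hp q hq hne hpq
    exact rel_smul hwz' (mem_stb.mp hk).1
  set C : Finset Ω := insert a (orb (stb G a) b) with hC
  have hCcard : C.card = 23 := by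
    rw [hC, Finset.card_insert_of_notMem (a_not_mem_D H), H.cb]
  -- the closed neighbourhoods of the points of `C`
  have hCout : ∀ x ∈ C, insert x (out G a b x) = C := by
    intro x hx
    have hsub : C ⊆ insert x (out G a b x) := by
      intro y hy
      rw [Finset.mem_insert, mem_out]
      by_cases hxy : y = x
      · exact Or.inl hxy
      · right
        rw [hC, Finset.mem_insert] at hx hy
        rcases hx with rfl | hx
        · rcases hy with rfl | hy
          · exact absurd rfl hxy
          · exact (rel_a_iff _).mpr hy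
        · rcases hy with rfl | hy
          · exact rel_symm H ((rel_a_iff _).mpr hx)
          · exact hcl x hx y hy (fun h => hxy h.symm)
    refine (Finset.eq_of_subset_of_card_le hsub ?_).symm
    rw [hCcard]
    have := Finset.card_insert_le x (out G a b x)
    rw [card_out H] at this
    exact this
  -- the closed neighbourhoods form a partition
  let f : Ω → Finset Ω := fun x => insert x (out G a b x)
  have hf_smul : ∀ x, ∀ g ∈ G, f (g x) = (f x).image g := by
    intro x g hg
    show insert (g x) (out G a b (g x)) = (insert x (out G a b x)).image g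
    rw [out_smul x hg, Finset.image_insert]
  have hf_eq : ∀ x y, y ∈ f x → f y = f x := by
    intro x y hy
    obtain ⟨g, hg, rfl⟩ := H.trans a x
    have hfa : f a = C := hCout a (by rw [hC]; exact Finset.mem_insert_self _ _)
    rw [hf_smul a g hg, hfa, Finset.mem_image] at hy
    obtain ⟨y0, hy0, rfl⟩ := hy
    have hfy0 : f y0 = C := hCout y0 hy0
    rw [hf_smul y0 g hg, hf_smul a g hg, hfa, hfy0]
  have hcount := Finset.card_eq_sum_card_image f (Finset.univ : Finset Ω)
  have hfib : ∀ B ∈ (Finset.univ : Finset Ω).image f,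
      ((Finset.univ : Finset Ω).filter fun x => f x = B).card = 23 := by
    intro B hB
    obtain ⟨x0, _, rfl⟩ := Finset.mem_image.mp hB
    have h1 : ((Finset.univ : Finset Ω).filter fun x => f x = f x0) = f x0 := by
      ext x
      rw [Finset.mem_filter]
      constructor
      · rintro ⟨_, h⟩
        rw [← h]
        exact Finset.mem_insert_self _ _
      · intro h
        exact ⟨Finset.mem_univ _, hf_eq x0 x h⟩
    rw [h1]
    obtain ⟨g, hg, rfl⟩ := H.trans a x0
    rw [hf_smul a g hg, Finset.card_image_of_injective _ g.injective]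
    show (insert a (out G a b a)).card = 23
    rw [hCout a (by rw [hC]; exact Finset.mem_insert_self _ _), hCcard]
  rw [Finset.sum_congr rfl hfib, Finset.sum_const, Finset.card_univ, H.card] at hcount
  simp only [smul_eq_mul] at hcount
  omega

theorem out_inter_D (p : Ω) (hp : p ∈ orb (stb G a) b) : out G a b p ∩ orb (stb G a) b = ∅ := by
  rw [Finset.eq_empty_iff_forall_notMem]
  intro z hz
  rw [Finset.mem_inter, mem_out] at hz
  exact no_triangle H a p z ((rel_a_iff _).mpr hp) ((rel_a_iff _).mpr hz.2) hz.1

/-- the number of neighbours in the second suborbit -/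
theorem card_out_inter_D' (p : Ω) (hp : p ∈ orb (stb G a) b) :
    (out G a b p ∩ orb (stb G a) c).card = 21 := by
  have h1 : out G a b p = insert a (out G a b p ∩ orb (stb G a) c) := by
    ext y
    rw [Finset.mem_insert, Finset.mem_inter, mem_out]
    constructor
    · intro h
      rcases cases_pt H y with rfl | hy | hy
      · exact Or.inl rfl
      · exfalso
        have : y ∈ out G a b p ∩ orb (stb G a) b := Finset.mem_inter.mpr ⟨mem_out.mpr h, hy⟩
        rw [out_inter_D H p hp] at this
        exact Finset.notMem_empty _ this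
      · exact Or.inr ⟨h, hy⟩
    · rintro (rfl | h)
      · exact rel_symm H ((rel_a_iff _).mpr hp)
      · exact h.1
  have h2 := card_out H p
  rw [h1, Finset.card_insert_of_notMem] at h2
  · omega
  · rw [Finset.mem_inter]
    rintro ⟨_, h⟩
    exact a_not_mem_D' H h

theorem card_D_inter_out_const (w : Ω) (hw : w ∈ orb (stb G a) c) :
    (orb (stb G a) b ∩ out G a b w).card = (orb (stb G a) b ∩ out G a b c).card := by
  have hw' : w ∈ orb (stb G a) c := hw
  obtain ⟨k, hk, rfl⟩ := mem_orb.mp hw'
  have hkG := (mem_stb.mp hk).1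
  have h1 : orb (stb G a) b ∩ out G a b (k c) = (orb (stb G a) b ∩ out G a b c).image k := by
    rw [out_smul c hkG, Finset.image_inter _ _ k.injective, (inv_orb (stb G a) b).image_eq hk]
  rw [h1, Finset.card_image_of_injective _ k.injective]

theorem card_D_inter_out (w : Ω) (hw : w ∈ orb (stb G a) c) :
    (orb (stb G a) b ∩ out G a b w).card = 6 := by
  have h := Finset.sum_card_bipartiteAbove_eq_sum_card_bipartiteBelow (s := orb (stb G a) b)
    (t := orb (stb G a) c) (r := fun x y => Rel G a b x y)
  have h1 : ∀ p ∈ orb (stb G a) b,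
      ((orb (stb G a) c).bipartiteAbove (fun x y => Rel G a b x y) p).card = 21 := by
    intro p hp
    rw [← card_out_inter_D' H p hp]
    congr 1
    ext y
    rw [Finset.mem_inter, mem_out]
    simp only [Finset.bipartiteAbove, Finset.mem_filter]
    tauto
  have h2 : ∀ w ∈ orb (stb G a) c,
      ((orb (stb G a) b).bipartiteBelow (fun x y => Rel G a b x y) w).card =
        (orb (stb G a) b ∩ out G a b c).card := by
    intro w hw
    rw [← card_D_inter_out_const H w hw]
    congr 1
    ext y
    rw [Finset.mem_inter, mem_out]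
    simp only [Finset.bipartiteBelow, Finset.mem_filter]
    constructor
    · rintro ⟨h1, h2⟩
      exact ⟨h1, rel_symm H h2⟩
    · rintro ⟨h1, h2⟩
      exact ⟨h1, rel_symm H h2⟩
  rw [Finset.sum_congr rfl h1, Finset.sum_congr rfl h2, Finset.sum_const, Finset.sum_const,
    H.cb, H.cc] at h
  simp only [smul_eq_mul] at h
  rw [card_D_inter_out_const H w hw]
  omega

/-- the orbital graph is the strongly regular graph -/
theorem facts : Facts (Gam G a b) where
  card := H.card
  deg := by
    intro v
    rw [N_eq_out H, card_out H]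
  adj := by
    intro v w hvw
    rw [Finset.eq_empty_iff_forall_notMem]
    intro z hz
    rw [Finset.mem_inter, mem_N, mem_N, gam_adj H, gam_adj H] at hz
    exact no_triangle H v w z ((gam_adj H _ _).mp hvw) hz.1 hz.2
  nonadj := by
    intro v w hne hna
    rw [gam_adj H] at hna
    obtain ⟨g, hg, rfl⟩ := H.trans a v
    have hw : g⁻¹ w ∈ orb (stb G a) c := by
      rcases cases_pt H (g⁻¹ w) with h | h | h
      · exfalso
        apply hne
        rw [← h]
        simp
      · exfalso
        apply hna
        have := rel_smul ((rel_a_iff _).mpr h) hg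
        simpa using this
      · exact h
    have h1 : N (Gam G a b) (g a) ∩ N (Gam G a b) w =
        (orb (stb G a) b ∩ out G a b (g⁻¹ w)).image g := by
      rw [N_eq_out H, N_eq_out H, Finset.image_inter _ _ g.injective, ← out_a, ← out_smul a hg,
        ← out_smul _ hg]
      simp
    rw [h1, Finset.card_image_of_injective _ g.injective, card_D_inter_out H _ hw]

end main

end

end Cfsg.Agent.Lib.Helper1.HSRk
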